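import Groth.Agent.Lib.TildePull8.Main
import Mathlib.RingTheory.IsTensorProduct
import Mathlib.Algebra.Category.Ring.Constructions

/-!
# Twists on a basic open under base change of the degree-zero scalars
-/

set_option autoImplicit false
set_option backward.isDefEq.respectTransparency false
set_option linter.style.haveILetI false

universe u

open AlgebraicGeometry CategoryTheory TopologicalSpace Opposite DirectSum TensorProduct
open GrothLib.RelTilde8 (evM evM_ext fracM)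
open GrothLib.RelTilde8.O (ev)
open GrothLib.TildePull8 (fpow ev_ext ev_add ev_mul ev_one ev_appLE)
open scoped HomogeneousIdeal

noncomputable section

namespace GrothLib.RelBC8

variable {A σ : Type u} [CommRing A] [SetLike σ A] [AddSubgroupClass σ A] {𝒜 : ℕ → σ} [GradedRing 𝒜]
variable {d : ℕ} {f : A} (hf : f ∈ 𝒜 d)

include hf in
theorem fpow_mem (k : ℕ) : f ^ k ∈ 𝒜 (k * d) := by simpa [smul_eq_mul] using SetLike.pow_mem_graded k hf

/-- Degree zero scalars as functions on `D(f)`. -/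
def scal {R : Type u} [CommRing R] (ρ : R →+* A) (hρ : ∀ r, ρ r ∈ 𝒜 0) (f : A) :
    R →+* Γ(Proj 𝒜, Proj.basicOpen 𝒜 f) :=
  (Proj.awayToSection 𝒜 f).hom.comp
    ((HomogeneousLocalization.fromZeroRingHom 𝒜 (Submonoid.powers f)).comp
      { toFun := fun r => (⟨ρ r, hρ r⟩ : 𝒜 0)
        map_one' := Subtype.ext (map_one ρ)
        map_mul' := fun a b => Subtype.ext (map_mul ρ a b)
        map_zero' := Subtype.ext (map_zero ρ)
        map_add' := fun a b => Subtype.ext (map_add ρ a b) })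

theorem ev_scal {R : Type u} [CommRing R] (ρ : R →+* A) (hρ : ∀ r, ρ r ∈ 𝒜 0) (f : A) (r : R)
    (y : Proj.basicOpen 𝒜 f) :
    ev y (scal ρ hρ f r) = Localization.mk (ρ r) (1 : y.1.asHomogeneousIdeal.toIdeal.primeCompl) := by
  refine (ProjectiveSpectrum.Proj.awayToSection_apply _ _ _ _).trans ?_
  simp only [RingHom.comp_apply, HomogeneousLocalization.fromZeroRingHom, RingHom.coe_mk, MonoidHom.coe_mk,
    OneHom.coe_mk, HomogeneousLocalization.val_mk]
  rw [Localization.mk_eq_mk', IsLocalization.map_mk', Localization.mk_eq_mk']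
  rfl

variable (n : ℤ) (d) in
/-- The degree of the numerators over `f ^ k`. -/
def pdeg (k : ℕ) : ℕ := ((k * d : ℕ) + n : ℤ).toNat

variable {n : ℤ}

theorem pdeg_eq {k : ℕ} (hk : 0 ≤ ((k * d : ℕ) : ℤ) + n) : (pdeg d n k : ℤ) = ((k * d : ℕ) : ℤ) + n :=
  Int.toNat_of_nonneg hk

/-- `a_p / f ^ k` as a section of the twist over `D(f)`, additively. -/
def fracHom {k : ℕ} (hk : 0 ≤ ((k * d : ℕ) : ℤ) + n) :
    A →+ Γ(GrMod.tilde 𝒜 𝒜 n, Proj.basicOpen 𝒜 f) :=
  AddMonoidHom.mk' (fun a => fracM (decompose 𝒜 a (pdeg d n k) : A) (f ^ k) (SetLike.coe_mem _) (fpow_mem hf k)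
    (fun y hm => y.2 (y.1.isPrime.mem_of_pow_mem k hm)) (Or.inl (pdeg_eq hk))) fun a b => evM_ext fun y => by
    simp only [RelTilde8.evM_add, RelTilde8.evM_fracM, DirectSum.decompose_add, DirectSum.add_apply,
      AddMemClass.coe_add, LocalizedModule.mk_add_mk]
    refine LocalizedModule.mk_eq.mpr ⟨1, ?_⟩
    simp only [Submonoid.smul_def, OneMemClass.coe_one, one_smul, Submonoid.coe_mul, smul_eq_mul, smul_add]
    ring

theorem evM_fracHom {k : ℕ} (hk : 0 ≤ ((k * d : ℕ) : ℤ) + n) (a : A) (y : Proj.basicOpen 𝒜 f) :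
    evM y (fracHom hf hk a) = LocalizedModule.mk (decompose 𝒜 a (pdeg d n k) : A) (fpow f k y) := rfl

theorem exists_fracHom (t : Γ(GrMod.tilde 𝒜 𝒜 n, Proj.basicOpen 𝒜 f)) (hd : 0 < d) :
    ∃ (k : ℕ) (hk : 0 ≤ ((k * d : ℕ) : ℤ) + n) (a : A), a ∈ 𝒜 (pdeg d n k) ∧ fracHom hf hk a = t := by
  obtain ⟨k, hk, p, a, hp, ha, h⟩ := RelTilde8.exists_frac 𝒜 hf hd t
  obtain rfl : p = pdeg d n k := by have := pdeg_eq hk; omega
  refine ⟨k, hk, a, ha, evM_ext fun y => ?_⟩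
  rw [evM_fracHom, decompose_of_mem_same 𝒜 ha, h y]
  rfl

theorem decompose_zero_mul {r a : A} (hr : r ∈ 𝒜 0) (i : ℕ) :
    (decompose 𝒜 (r * a) i : A) = r * (decompose 𝒜 a i : A) := by
  have := coe_decompose_mul_of_left_mem_zero 𝒜 (b := a) (j := i) hr
  simpa using this

theorem scal_smul_fracHom {R : Type u} [CommRing R] (ρ : R →+* A) (hρ : ∀ r, ρ r ∈ 𝒜 0) {k : ℕ}
    (hk : 0 ≤ ((k * d : ℕ) : ℤ) + n) (r : R) (a : A) :
    scal ρ hρ f r • fracHom hf hk a = fracHom hf hk (ρ r * a) := evM_ext fun y => by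
  rw [RelTilde8.evM_smul, ev_scal, evM_fracHom, evM_fracHom, LocalizedModule.mk_smul_mk, decompose_zero_mul (hρ r),
    one_mul]
  rfl

theorem fracHom_shift {k : ℕ} (hk : 0 ≤ ((k * d : ℕ) : ℤ) + n) (m : ℕ)
    (hk' : 0 ≤ (((k + m) * d : ℕ) : ℤ) + n) (a : A) :
    fracHom hf hk' (f ^ m * a) = fracHom hf hk a := evM_ext fun y => by
  have hp : pdeg d n (k + m) = m * d + pdeg d n k := by
    have e1 := pdeg_eq hk
    have e2 := pdeg_eq hk'
    have e3 : (k + m) * d = k * d + m * d := add_mul k m d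
    omega
  rw [evM_fracHom, evM_fracHom, hp, coe_decompose_mul_of_left_mem_of_le 𝒜 (fpow_mem hf m) (Nat.le_add_right _ _),
    Nat.add_sub_cancel_left]
  refine LocalizedModule.mk_eq.mpr ⟨1, ?_⟩
  simp only [fpow, Submonoid.smul_def, OneMemClass.coe_one, one_smul, smul_eq_mul, pow_add]
  ring

/-- An element whose fraction vanishes is killed, in its degree, by a power of `f`. -/
theorem exists_pow_mul_eq_zero (hd : 0 < d) {k : ℕ} (hk : 0 ≤ ((k * d : ℕ) : ℤ) + n) (a : A)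
    (h : fracHom hf hk a = 0) : ∃ N : ℕ, f ^ N * (decompose 𝒜 a (pdeg d n k) : A) = 0 :=
  RelTilde8.exists_pow_smul_eq_zero_of_mk 𝒜 hf hd (SetLike.coe_mem _) fun y hy =>
    ⟨fpow f k ⟨y, hy⟩, by
      have := congrArg (evM (⟨y, hy⟩ : Proj.basicOpen 𝒜 f)) h
      rwa [evM_fracHom] at this⟩

section BaseChange

variable {B σ' : Type u} [CommRing B] [SetLike σ' B] [AddSubgroupClass σ' B] {ℬ : ℕ → σ'} [GradedRing ℬ]
variable (ψ : 𝒜 →+*ᵍ ℬ) (hψ : ℬ₊ ≤ (𝒜₊).map ψ)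
variable {R R' : Type u} [CommRing R] [CommRing R'] (α : R →+* R') (ρ : R →+* A) (ρ' : R' →+* B)
variable (hρ : ∀ r, ρ r ∈ 𝒜 0) (hρ' : ∀ r, ρ' r ∈ ℬ 0)

/-- The comparison of twists over `D(f)`. -/
def cmap (f : A) : Γ(GrMod.tilde 𝒜 𝒜 n, Proj.basicOpen 𝒜 f) →+ Γ(GrMod.tilde ℬ ℬ n, Proj.basicOpen ℬ (ψ f)) where
  toFun s := GrTwist.comapApp ψ hψ n (Proj.basicOpen 𝒜 f) (Proj.basicOpen ℬ (ψ f))
    (TildePull8.basicOpen_le_preimage ψ hψ f) s
  map_zero' := map_zero _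
  map_add' := map_add _

theorem cmap_fracHom {k : ℕ} (hk : 0 ≤ ((k * d : ℕ) : ℤ) + n) {a : A} :
    cmap ψ hψ f (fracHom hf hk a) = fracHom (ψ.map_mem hf) hk (ψ a) := evM_ext fun y => by
  show GrTwist.locMap ψ hψ y.1 (Localization.mk (decompose 𝒜 a (pdeg d n k) : A) _) = _
  rw [GrTwist.locMap_mk]
  refine (congrArg₂ Localization.mk ?_ (Subtype.ext (map_pow ψ f k))).trans rfl
  simp

set_option maxHeartbeats 2000000 in
include hf in
/-- **Base change of the twist on a basic open.** -/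
theorem bijective_lift (hd : 0 < d)
    (hpo : IsPushout (CommRingCat.ofHom α) (CommRingCat.ofHom ρ) (CommRingCat.ofHom ρ') (CommRingCat.ofHom ψ.toRingHom)) :
    letI : Module R Γ(GrMod.tilde 𝒜 𝒜 n, Proj.basicOpen 𝒜 f) := Module.compHom _ (scal ρ hρ f)
    letI : Module R' Γ(GrMod.tilde ℬ ℬ n, Proj.basicOpen ℬ (ψ f)) := Module.compHom _ (scal ρ' hρ' (ψ f))
    letI : Algebra R R' := α.toAlgebra
    ∃ Φ : R' ⊗[R] Γ(GrMod.tilde 𝒜 𝒜 n, Proj.basicOpen 𝒜 f) →+ Γ(GrMod.tilde ℬ ℬ n, Proj.basicOpen ℬ (ψ f)),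
      (∀ r s, Φ (r ⊗ₜ s) = scal ρ' hρ' (ψ f) r • cmap ψ hψ f s) ∧ Function.Bijective Φ := by
  let M₀ := Γ(GrMod.tilde 𝒜 𝒜 n, Proj.basicOpen 𝒜 f)
  let N₀ := Γ(GrMod.tilde ℬ ℬ n, Proj.basicOpen ℬ (ψ f))
  letI : Module R M₀ := Module.compHom _ (scal ρ hρ f)
  letI : Module R' N₀ := Module.compHom _ (scal ρ' hρ' (ψ f))
  letI : Algebra R R' := α.toAlgebra
  letI : Algebra R A := ρ.toAlgebra
  letI : Algebra R' B := ρ'.toAlgebra
  letI : Algebra A B := ψ.toRingHom.toAlgebra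
  letI : Algebra R B := (ρ'.comp α).toAlgebra
  haveI : IsScalarTower R R' B := IsScalarTower.of_algebraMap_eq fun _ => rfl
  have hw : ∀ r, ρ' (α r) = ψ (ρ r) := fun r => ConcreteCategory.congr_hom hpo.w r
  haveI : IsScalarTower R A B := IsScalarTower.of_algebraMap_eq fun r => hw r
  letI : Module R N₀ := Module.compHom _ α
  haveI : IsScalarTower R R' N₀ := IsScalarTower.of_algebraMap_smul fun _ _ => rfl
  have hP : Algebra.IsPushout R R' A B := CommRingCat.isPushout_iff_isPushout.mp hpo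
  have hbc : IsBaseChange R' (IsScalarTower.toAlgHom R A B).toLinearMap := hP.out
  let cL : M₀ →ₗ[R] N₀ :=
    { toFun := cmap ψ hψ f
      map_add' := map_add _
      map_smul' := fun r s => by
        obtain ⟨k, hk, a, -, rfl⟩ := exists_fracHom hf s hd
        show cmap ψ hψ f (scal ρ hρ f r • fracHom hf hk a) =
          scal ρ' hρ' (ψ f) (α r) • cmap ψ hψ f (fracHom hf hk a)
        rw [scal_smul_fracHom, cmap_fracHom, cmap_fracHom, map_mul, ← hw]
        exact (scal_smul_fracHom (ψ.map_mem hf) ρ' hρ' hk (α r) (ψ a)).symm }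
  let Φ : R' ⊗[R] M₀ →ₗ[R'] N₀ := cL.liftBaseChange R'
  refine ⟨Φ.toAddMonoidHom, fun r s => ?_, ?_⟩
  · exact LinearMap.liftBaseChange_tmul R' cL r s
  let lk : ∀ {k : ℕ}, 0 ≤ ((k * d : ℕ) : ℤ) + n → A →ₗ[R] R' ⊗[R] M₀ := fun hk =>
    { toFun := fun a => (1 : R') ⊗ₜ fracHom hf hk a
      map_add' := fun a b => by rw [map_add, tmul_add]
      map_smul' := fun r a => by
        show (1 : R') ⊗ₜ[R] fracHom hf hk (ρ r * a) = r • ((1 : R') ⊗ₜ[R] fracHom hf hk a)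
        rw [← scal_smul_fracHom hf ρ hρ hk r a, ← tmul_smul]
        rfl }
  let h : ∀ {k : ℕ}, 0 ≤ ((k * d : ℕ) : ℤ) + n → B →ₗ[R'] R' ⊗[R] M₀ := fun hk => hbc.lift (lk hk)
  have h_map : ∀ {k : ℕ} (hk : 0 ≤ ((k * d : ℕ) : ℤ) + n) (a : A), h hk (ψ a) = (1 : R') ⊗ₜ fracHom hf hk a :=
    fun hk a => hbc.lift_eq (lk hk) a
  have hsm : ∀ (r : R') (b : B), r • b = ρ' r * b := fun _ _ => rfl
  have hval : ∀ {k : ℕ} (hk : 0 ≤ ((k * d : ℕ) : ℤ) + n) (b : B), Φ (h hk b) = fracHom (ψ.map_mem hf) hk b := by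
    intro k hk b
    refine LinearMap.congr_fun (hbc.algHom_ext (Φ.comp (h hk))
      { toFun := fracHom (ψ.map_mem hf) hk
        map_add' := map_add _
        map_smul' := fun r b => (scal_smul_fracHom (ψ.map_mem hf) ρ' hρ' hk r b).symm } fun a => ?_) b
    show Φ (h hk (ψ a)) = fracHom (ψ.map_mem hf) hk (ψ a)
    rw [h_map, LinearMap.liftBaseChange_tmul, one_smul]
    exact cmap_fracHom hf ψ hψ hk
  have hproj : ∀ {k : ℕ} (hk : 0 ≤ ((k * d : ℕ) : ℤ) + n) (b : B),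
      h hk (decompose ℬ b (pdeg d n k) : B) = h hk b := by
    intro k hk b
    let π : B →ₗ[R'] B :=
      { toFun := fun b => (decompose ℬ b (pdeg d n k) : B)
        map_add' := fun x y => by simp [DirectSum.decompose_add]
        map_smul' := fun r b => decompose_zero_mul (𝒜 := ℬ) (a := b) (hρ' r) (pdeg d n k) }
    refine LinearMap.congr_fun (hbc.algHom_ext ((h hk).comp π) (h hk) fun a => ?_) b
    show h hk (decompose ℬ (ψ a) (pdeg d n k) : B) = h hk (ψ a)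
    refine (congrArg (h hk) (show (decompose ℬ (ψ a) (pdeg d n k) : B) = ψ (decompose 𝒜 a (pdeg d n k) : A) by simp)).trans ?_
    rw [h_map, h_map]
    refine congrArg _ (evM_ext fun y => ?_)
    rw [evM_fracHom, evM_fracHom, decompose_of_mem_same 𝒜 (SetLike.coe_mem _)]
  have hshift : ∀ {k : ℕ} (hk : 0 ≤ ((k * d : ℕ) : ℤ) + n) (m : ℕ) (hk' : 0 ≤ (((k + m) * d : ℕ) : ℤ) + n) (b : B),
      h hk' (ψ f ^ m * b) = h hk b := by
    intro k hk m hk' b
    refine LinearMap.congr_fun (hbc.algHom_ext ((h hk').comp (LinearMap.mulLeft R' (ψ f ^ m))) (h hk) fun a => ?_) b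
    show h hk' (ψ f ^ m * ψ a) = h hk (ψ a)
    rw [← map_pow, ← map_mul, h_map, h_map, fracHom_shift hf hk m]
  have hgen : ∀ z : R' ⊗[R] M₀, ∃ (k : ℕ) (hk : 0 ≤ ((k * d : ℕ) : ℤ) + n) (b : B), h hk b = z := by
    intro z
    induction z using TensorProduct.induction_on with
    | zero =>
      have hk : 0 ≤ ((n.natAbs * d : ℕ) : ℤ) + n := by
        have := Nat.le_mul_of_pos_right n.natAbs hd
        omega
      exact ⟨n.natAbs, hk, 0, map_zero _⟩
    | tmul r s =>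
      obtain ⟨k, hk, a, -, rfl⟩ := exists_fracHom hf s hd
      exact ⟨k, hk, r • ψ a, by rw [map_smul, h_map, TensorProduct.smul_tmul', smul_eq_mul, mul_one]⟩
    | add x y hx hy =>
      obtain ⟨k, hk, b, rfl⟩ := hx
      obtain ⟨k', hk', b', rfl⟩ := hy
      have hK : 0 ≤ (((k + k') * d : ℕ) : ℤ) + n := by rw [add_mul]; omega
      have hK' : 0 ≤ (((k' + k) * d : ℕ) : ℤ) + n := by rw [add_mul]; omega
      refine ⟨k + k', hK, ψ f ^ k' * b + ψ f ^ k * b', ?_⟩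
      rw [map_add, hshift hk k' hK b, ← hshift hk' k hK' b']
      congr 1
      revert hK hK'
      rw [add_comm k k']
      exact fun _ _ => rfl
  refine ⟨(injective_iff_map_eq_zero Φ).mpr fun z hz => ?_, fun t => ?_⟩
  · obtain ⟨k, hk, b, rfl⟩ := hgen z
    rw [hval] at hz
    obtain ⟨N, hN⟩ := exists_pow_mul_eq_zero (ψ.map_mem hf) hd hk b hz
    have hk' : 0 ≤ (((k + N) * d : ℕ) : ℤ) + n := by rw [add_mul]; omega
    rw [← hproj hk b, ← hshift hk N hk']
    exact (congrArg (h hk') hN).trans (map_zero _)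
  · obtain ⟨k, hk, b, -, rfl⟩ := exists_fracHom (ψ.map_mem hf) t hd
    exact ⟨h hk b, hval hk b⟩

end BaseChange

end GrothLib.RelBC8
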