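import Groth.Agent.Lib.RelProjK.TwistMap
import Groth.Agent.Lib.Stein.General

/-!
# The map of twisting sheaves along a change of base
-/

set_option autoImplicit false
set_option backward.isDefEq.respectTransparency false

universe u

open CategoryTheory CategoryTheory.Limits AlgebraicGeometry TopologicalSpace Opposite
open GrothLib.RelProjK
open scoped HomogeneousIdeal

noncomputable section

namespace GrothLib.RelBC8

variable {Y Y' P P' : Scheme.{u}} {ψ : Y' ⟶ Y} {𝒮 : RelProj.QCGrAlg Y} {𝒮' : RelProj.QCGrAlg Y'}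

/-- An affine open of `Y'` inside the preimage of one of `Y`. -/
abbrev Le (ψ : Y' ⟶ Y) (U : Y.AffineZariskiSite) (U' : Y'.AffineZariskiSite) : Prop := U'.1 ≤ ψ ⁻¹ᵁ U.1

/-- A small affine open of `Y'`. -/
def Small (ψ : Y' ⟶ Y) (U' : Y'.AffineZariskiSite) : Prop := ∃ U : Y.AffineZariskiSite, Le ψ U U'

theorem Le.mono {U : Y.AffineZariskiSite} {U' E : Y'.AffineZariskiSite} (h : Le ψ U U') (hE : E ≤ U') : Le ψ U E :=
  le_trans (Scheme.AffineZariskiSite.toOpens_mono hE) h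

theorem exists_small (U' : Y'.AffineZariskiSite) {x : Y'} (hx : x ∈ U'.1) :
    ∃ D : Y'.AffineZariskiSite, D ≤ U' ∧ Small ψ D ∧ x ∈ D.1 := by
  obtain ⟨U, hU, hxU, -⟩ := exists_isAffineOpen_mem_and_subset (Opens.mem_top (ψ x))
  obtain ⟨g, hg, hxg⟩ := U'.2.exists_basicOpen_le (V := ψ ⁻¹ᵁ U) ⟨x, hxU⟩ hx
  exact ⟨U'.basicOpen g, ⟨g, rfl⟩, ⟨⟨U, hU⟩, hg⟩, hxg⟩

/-- The data of a base change of graded algebras. -/
structure Data (ψ : Y' ⟶ Y) (𝒮 : RelProj.QCGrAlg Y) (𝒮' : RelProj.QCGrAlg Y') where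
  φ : ∀ (U : Y.AffineZariskiSite) (U' : Y'.AffineZariskiSite), Le ψ U U' → dg 𝒮 U →+*ᵍ dg 𝒮' U'
  irr : ∀ (U : Y.AffineZariskiSite) (U' : Y'.AffineZariskiSite) (h : Le ψ U U'),
    (dg 𝒮' U')₊ ≤ ((dg 𝒮 U)₊).map (φ U U' h)
  rs_left : ∀ (U V : Y.AffineZariskiSite) (hV : V ≤ U) (U' : Y'.AffineZariskiSite) (h : Le ψ V U') (h' : Le ψ U U')
    (a : 𝒮.presheaf.obj (op U.1)), φ V U' h (rs 𝒮 hV a) = φ U U' h' a
  rs_right : ∀ (U : Y.AffineZariskiSite) (U' E : Y'.AffineZariskiSite) (h : Le ψ U U') (hE : E ≤ U')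
    (a : 𝒮.presheaf.obj (op U.1)), rs 𝒮' hE (φ U U' h a) = φ U E (h.mono hE) a

variable (D : Data ψ 𝒮 𝒮') {p : P ⟶ Y} {p' : P' ⟶ Y'}
  {chart : ∀ (U : Y.Opens) (hU : IsAffineOpen U), (((p ⁻¹ᵁ U : P.Opens) : Scheme.{u}) ≅ Proj (𝒮.deg U hU))}
  {chart' : ∀ (U' : Y'.Opens) (hU' : IsAffineOpen U'), (((p' ⁻¹ᵁ U' : P'.Opens) : Scheme.{u}) ≅ Proj (𝒮'.deg U' hU'))}
  {g : P' ⟶ P}

/-- `g` is given chartwise by the graded maps. -/
def IsOver (p : P ⟶ Y) (p' : P' ⟶ Y')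
    (chart : ∀ (U : Y.Opens) (hU : IsAffineOpen U), (((p ⁻¹ᵁ U : P.Opens) : Scheme.{u}) ≅ Proj (𝒮.deg U hU)))
    (chart' : ∀ (U' : Y'.Opens) (hU' : IsAffineOpen U'), (((p' ⁻¹ᵁ U' : P'.Opens) : Scheme.{u}) ≅ Proj (𝒮'.deg U' hU')))
    (g : P' ⟶ P) : Prop :=
  ∀ (U : Y.AffineZariskiSite) (U' : Y'.AffineZariskiSite) (h : Le ψ U U'),
    em p' chart' U' ≫ g = Proj.map (D.φ U U' h) (D.irr U U' h) ≫ em p chart U

variable {D} (hg : IsOver D p p' chart chart' g)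
include hg

theorem em_apply {U : Y.AffineZariskiSite} {U' : Y'.AffineZariskiSite} (h : Le ψ U U')
    (y : ProjectiveSpectrum (dg 𝒮' U')) :
    g (em p' chart' U' y) = em p chart U (ProjectiveSpectrum.comap (D.φ U U' h) (D.irr U U' h) y) :=
  congrArg (fun k : Proj (dg 𝒮' U') ⟶ P => k y) (hg U U' h)

variable (n : ℤ)

/-- The comparison of twists on a chart. -/
def cmp {U : Y.AffineZariskiSite} {U' : Y'.AffineZariskiSite} (h : Le ψ U U') :
    Tw p chart n U ⟶ (Scheme.Modules.pushforward g).obj (Tw p' chart' n U') :=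
  (Scheme.Modules.pushforward (em p chart U)).map (GrTwist.comap (D.φ U U' h) (D.irr U U' h) n) ≫
    (Scheme.Modules.pushforwardComp (Proj.map (D.φ U U' h) (D.irr U U' h)) (em p chart U)).hom.app _ ≫
      (Scheme.Modules.pushforwardCongr (hg U U' h).symm).hom.app _ ≫
        (Scheme.Modules.pushforwardComp (em p' chart' U') g).inv.app _

/-- The value of the comparison. -/
abbrev cmpApp {U : Y.AffineZariskiSite} {U' : Y'.AffineZariskiSite} (h : Le ψ U U') {W : P.Opens}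
    (t : Γ(Tw p chart n U, W)) : Γ(Tw p' chart' n U', g ⁻¹ᵁ W) := (cmp hg n h).app W t

theorem vl_cmp {U : Y.AffineZariskiSite} {U' : Y'.AffineZariskiSite} (h : Le ψ U U') {W : P.Opens}
    (t : Γ(Tw p chart n U, W)) (y : ProjectiveSpectrum (dg 𝒮' U')) (hy : em p' chart' U' y ∈ g ⁻¹ᵁ W) :
    vl (cmpApp hg n h t) y hy =
      GrTwist.locMap (D.φ U U' h) (D.irr U U' h) y
        (vl t (ProjectiveSpectrum.comap (D.φ U U' h) (D.irr U U' h) y) (em_apply hg h y ▸ hy)) := rfl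

variable (hP : RelProj.IsRelProj 𝒮 p chart) (hP' : RelProj.IsRelProj 𝒮' p' chart')

theorem cm_cmp {U : Y.AffineZariskiSite} {U' E : Y'.AffineZariskiSite} (h : Le ψ U U') (hE : E ≤ U') {W : P.Opens}
    (t : Γ(Tw p chart n U, W)) :
    (cm hP' n hE).app (g ⁻¹ᵁ W) (cmpApp hg n h t) = cmpApp hg n (h.mono hE) t := by
  refine vl_ext fun y hy => ?_
  rw [vl_cm, vl_cmp, vl_cmp]
  obtain ⟨e, he⟩ := locMap_comp (D.φ U U' h) (D.irr U U' h) (rs 𝒮' hE) (rs_irr 𝒮' hE) (D.φ U E (h.mono hE))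
    (D.irr U E (h.mono hE)) (D.rs_right U U' E h hE) y
  refine (he _ rfl _).trans (congrArg _ ?_)
  have key : ∀ (x x' : ProjectiveSpectrum (dg 𝒮 U)) (hx : em p chart U x ∈ W) (hx' : em p chart U x' ∈ W)
      (e : x = x'), (e ▸ vl t x hx : GrTwist.Loc (dg 𝒮 U) x') = vl t x' hx' := by
    intro x x' hx hx' e
    subst e
    rfl
  exact key _ _ _ _ e

theorem cmp_cm {U V : Y.AffineZariskiSite} {U' : Y'.AffineZariskiSite} (hV : V ≤ U) (h : Le ψ V U') (h' : Le ψ U U')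
    {W : P.Opens} (t : Γ(Tw p chart n U, W)) :
    cmpApp hg n h ((cm hP n hV).app W t) = cmpApp hg n h' t := by
  refine vl_ext fun y hy => ?_
  rw [vl_cmp, vl_cmp, vl_cm]
  obtain ⟨e, he⟩ := locMap_comp (rs 𝒮 hV) (rs_irr 𝒮 hV) (D.φ V U' h) (D.irr V U' h) (D.φ U U' h')
    (D.irr U U' h') (D.rs_left U V hV U' h h') y
  refine (he _ rfl _).trans (congrArg _ ?_)
  have key : ∀ (x x' : ProjectiveSpectrum (dg 𝒮 U)) (hx : em p chart U x ∈ W) (hx' : em p chart U x' ∈ W)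
      (e : x = x'), (e ▸ vl t x hx : GrTwist.Loc (dg 𝒮 U) x') = vl t x' hx' := by
    intro x x' hx hx' e
    subst e
    rfl
  exact key _ _ _ _ e

variable {L : P.Modules}
  {lam : ∀ (U : Y.Opens) (hU : IsAffineOpen U),
    L ⟶ (Scheme.Modules.pushforward (RelProj.emb p chart U hU)).obj (GrTwist.twist (𝒮.deg U hU) n)}

include hP hP' in
/-- The comparison does not depend on the affine open of the base. -/
theorem cmp_eq (hL : RelProj.IsRelTwist 𝒮 p chart n L lam) {U₁ U₂ : Y.AffineZariskiSite}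
    {U' : Y'.AffineZariskiSite} (h₁ : Le ψ U₁ U') (h₂ : Le ψ U₂ U') {W : P.Opens} (s : Γ(L, W)) :
    cmpApp hg n h₁ (onChart lam U₁ s) = cmpApp hg n h₂ (onChart lam U₂ s) := by
  refine ext_cm hP' n fun x _ hxU => ?_
  obtain ⟨a, b, hab, hxa⟩ := exists_basicOpen_le_affine_inter U₁.2 U₂.2 (ψ (p' x)) ⟨h₁ hxU, h₂ hxU⟩
  let V := U₁.basicOpen a
  have hV₁ : V ≤ U₁ := ⟨a, rfl⟩
  have hV₂ : V ≤ U₂ := ⟨b, hab.symm⟩
  obtain ⟨c, hc, hxc⟩ := U'.2.exists_basicOpen_le (V := ψ ⁻¹ᵁ V.1) ⟨p' x, hxa⟩ hxU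
  let E := U'.basicOpen c
  have hE : E ≤ U' := ⟨c, rfl⟩
  refine ⟨E, hE, hxc, ?_⟩
  rw [cm_cmp hg n hP', cm_cmp hg n hP', ← cmp_cm hg n hP hV₁ (U' := E) hc, ← cmp_cm hg n hP hV₂ (U' := E) hc]
  exact congrArg (cmpApp hg n hc) ((isFam_of_isRelTwist hP n hL s U₁ V hV₁).trans
    (isFam_of_isRelTwist hP n hL s U₂ V hV₂).symm)

variable {L' : P'.Modules}
  {lam' : ∀ (U' : Y'.Opens) (hU' : IsAffineOpen U'),
    L' ⟶ (Scheme.Modules.pushforward (RelProj.emb p' chart' U' hU')).obj (GrTwist.twist (𝒮'.deg U' hU') n)}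

/-- The comparison as a map out of the inverse image. -/
def lmap (lam : ∀ (U : Y.Opens) (hU : IsAffineOpen U),
    L ⟶ (Scheme.Modules.pushforward (RelProj.emb p chart U hU)).obj (GrTwist.twist (𝒮.deg U hU) n))
    {U : Y.AffineZariskiSite} {U' : Y'.AffineZariskiSite} (h : Le ψ U U') :
    (Scheme.Modules.pullback g).obj L ⟶ Tw p' chart' n U' :=
  ((Scheme.Modules.pullbackPushforwardAdjunction g).homEquiv L (Tw p' chart' n U')).symm
    (lam U.1 U.2 ≫ cmp hg n h)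

include hP hP' in
theorem lmap_cm (hL : RelProj.IsRelTwist 𝒮 p chart n L lam) {U V : Y.AffineZariskiSite}
    {U' E : Y'.AffineZariskiSite} (h : Le ψ U U') (hE : E ≤ U') (h' : Le ψ V E) :
    lmap hg n lam h ≫ cm hP' n hE = lmap hg n lam h' := by
  have e : (lam U.1 U.2 ≫ cmp hg n h) ≫ (Scheme.Modules.pushforward g).map (cm hP' n hE) =
      lam V.1 V.2 ≫ cmp hg n h' := by
    refine Scheme.Modules.hom_ext _ _ fun W => ConcreteCategory.hom_ext _ _ fun t => ?_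
    show (cm hP' n hE).app (g ⁻¹ᵁ W) (cmpApp hg n h (onChart lam U t)) = cmpApp hg n h' (onChart lam V t)
    rw [cm_cmp hg n hP']
    exact cmp_eq hg n hP hP' hL (h.mono hE) h' t
  show ((Scheme.Modules.pullbackPushforwardAdjunction g).homEquiv L (Tw p' chart' n U')).symm _ ≫ cm hP' n hE = _
  rw [← Adjunction.homEquiv_naturality_right_symm, e]
  rfl

theorem lmap_unit {U : Y.AffineZariskiSite} {U' : Y'.AffineZariskiSite} (h : Le ψ U U')
    (a : (Scheme.Modules.pullback g).obj L ⟶ Tw p' chart' n U') (e : a = lmap hg n lam h) (W : P.Opens) (s : Γ(L, W)) :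
    a.app (g ⁻¹ᵁ W) (((Scheme.Modules.pullbackPushforwardAdjunction g).unit.app L).app W s) =
      cmpApp hg n h (onChart lam U s) := by
  have e2 : (Scheme.Modules.pullbackPushforwardAdjunction g).unit.app L ≫ (Scheme.Modules.pushforward g).map a =
      lam U.1 U.2 ≫ cmp hg n h := by
    subst e
    exact (Adjunction.homEquiv_unit _ _ _ _).symm.trans (Equiv.apply_symm_apply _ _)
  exact congrArg (fun k : L ⟶ (Scheme.Modules.pushforward g).obj (Tw p' chart' n U') => k.app W s) e2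

omit hg in
variable (ψ) in
/-- The small affine opens. -/
abbrev SmallSite : Type u := {U' : Y'.AffineZariskiSite // Small ψ U'}

omit hg in
/-- The comparison maps between small charts. -/
abbrev cS (hP' : RelProj.IsRelProj 𝒮' p' chart') {U V : SmallSite ψ} (h : V ≤ U) :
    Tw p' chart' n U.1 ⟶ Tw p' chart' n V.1 :=
  cm hP' n (show V.1 ≤ U.1 from h)

omit hg in
theorem isFam_small (hL' : RelProj.IsRelTwist 𝒮' p' chart' n L' lam') (W : P'.Opens) (s : Γ(L', W)) :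
    IsFam (fun U' : SmallSite ψ => Tw p' chart' n U'.1) (cS n hP') fun U' => (lam' U'.1.1 U'.1.2).app W s :=
  fun U V h => isFam_of_isRelTwist hP' n hL' s U.1 V.1 h

omit hg in
/-- The comparison with families on small charts. -/
def toSmall (hL' : RelProj.IsRelTwist 𝒮' p' chart' n L' lam') :
    L' ⟶ famMod (fun U' : SmallSite ψ => Tw p' chart' n U'.1) (cS n hP') :=
  famLift (fun U' : SmallSite ψ => lam' U'.1.1 U'.1.2) (isFam_small n hP' hL')

omit hg in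
theorem injective_famProj_small (U₀ : SmallSite ψ) {W : P'.Opens} (hW : W ≤ p' ⁻¹ᵁ U₀.1.1) :
    Function.Injective ((famProj (fun U' : SmallSite ψ => Tw p' chart' n U'.1) (cS n hP') U₀).app W) := by
  intro s t hst
  rw [famProj_app, famProj_app] at hst
  refine Subtype.ext (funext fun U => ext_cm hP' n fun x hx hxU => ?_)
  obtain ⟨a, b, hab, hxa⟩ := exists_basicOpen_le_affine_inter U.1.2 U₀.1.2 (p' x) ⟨hxU, hW hx⟩
  let E : SmallSite ψ := ⟨U.1.basicOpen a, U.2.choose, U.2.choose_spec.mono ⟨a, rfl⟩⟩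
  have hEU : E ≤ U := ⟨a, rfl⟩
  have hE0 : E ≤ U₀ := ⟨b, hab.symm⟩
  refine ⟨E.1, hEU, hxa, ?_⟩
  have e1 := (show famSub (fun U' : SmallSite ψ => Tw p' chart' n U'.1) (cS n hP') W from s).2
  have e2 := (show famSub (fun U' : SmallSite ψ => Tw p' chart' n U'.1) (cS n hP') W from t).2
  exact (e1 U E hEU).trans (((e1 U₀ E hE0).symm.trans (congrArg ((cS n hP' hE0).app W) hst)).trans
    ((e2 U₀ E hE0).trans (e2 U E hEU).symm))

omit hg in
theorem isIso_toSmall (hL' : RelProj.IsRelTwist 𝒮' p' chart' n L' lam') :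
    IsIso (toSmall (ψ := ψ) n hP' hL') := by
  refine Stein.isIso_of_bijective_basis _ (fun W => ∃ U₀ : SmallSite ψ, W ≤ p' ⁻¹ᵁ U₀.1.1) (fun W x hx => ?_) ?_
  · obtain ⟨U', hU', hxU', -⟩ := exists_isAffineOpen_mem_and_subset (Opens.mem_top (p' x))
    obtain ⟨E, -, hE, hxE⟩ := exists_small (ψ := ψ) ⟨U', hU'⟩ hxU'
    exact ⟨W ⊓ p' ⁻¹ᵁ E.1, ⟨⟨E, hE⟩, inf_le_right⟩, ⟨hx, hxE⟩, inf_le_left⟩
  · rintro W ⟨U₀, hW⟩
    have hinj := injective_famProj_small n hP' U₀ hW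
    have hb : Function.Bijective ((famProj _ (cS n hP') U₀).app W ∘ (toSmall (ψ := ψ) n hP' hL').app W) :=
      hL'.bijective U₀.1.1 U₀.1.2 W hW
    refine ⟨fun x y h => hb.1 (congrArg ((famProj _ (cS n hP') U₀).app W) h), fun z => ?_⟩
    obtain ⟨x, hx⟩ := hb.2 ((famProj _ (cS n hP') U₀).app W z)
    exact ⟨x, hinj hx⟩

include hP hP' in
/-- **The map of twisting sheaves.** -/
theorem exists_map (hL : RelProj.IsRelTwist 𝒮 p chart n L lam) (hL' : RelProj.IsRelTwist 𝒮' p' chart' n L' lam') :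
    ∃ a : (Scheme.Modules.pullback g).obj L ⟶ L', ∀ (U : Y.AffineZariskiSite) (U' : Y'.AffineZariskiSite)
      (h : Le ψ U U') (W : P.Opens) (s : Γ(L, W)),
      onChart lam' U' (show Γ(L', g ⁻¹ᵁ W) from
        a.app (g ⁻¹ᵁ W) (((Scheme.Modules.pullbackPushforwardAdjunction g).unit.app L).app W s)) =
      cmpApp hg n h (onChart lam U s) := by
  have hl : ∀ (W : P'.Opens) (s : Γ((Scheme.Modules.pullback g).obj L, W)),
      IsFam (fun U' : SmallSite ψ => Tw p' chart' n U'.1) (cS n hP')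
        fun U' => (lmap hg n lam U'.2.choose_spec).app W s := fun W s U' V' hVU =>
    congrArg (fun k : (Scheme.Modules.pullback g).obj L ⟶ Tw p' chart' n V'.1 => k.app W s)
      (lmap_cm hg n hP hP' hL U'.2.choose_spec hVU V'.2.choose_spec)
  haveI := isIso_toSmall (ψ := ψ) n hP' hL'
  refine ⟨famLift (fun U' : SmallSite ψ => lmap hg n lam U'.2.choose_spec) hl ≫ inv (toSmall (ψ := ψ) n hP' hL'),
    fun U U' h W s => ?_⟩
  let U₀ : SmallSite ψ := ⟨U', U, h⟩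
  have e : (famLift (fun U' : SmallSite ψ => lmap hg n lam U'.2.choose_spec) hl ≫
      inv (toSmall (ψ := ψ) n hP' hL')) ≫ lam' U'.1 U'.2 = lmap hg n lam U₀.2.choose_spec := by
    have e1 : toSmall (ψ := ψ) n hP' hL' ≫ famProj _ (cS n hP') U₀ = lam' U'.1 U'.2 :=
      famLift_proj (fun U' : SmallSite ψ => lam' U'.1.1 U'.1.2) (isFam_small n hP' hL') U₀
    rw [Category.assoc, ← e1, IsIso.inv_hom_id_assoc]
    exact famLift_proj _ hl U₀
  exact (lmap_unit hg n U₀.2.choose_spec _ e W s).trans (cmp_eq hg n hP hP' hL _ h s)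

end GrothLib.RelBC8
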