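import Groth.Agent.Lib.RelBC8.Alg
import Groth.Agent.Lib.RelBC8.Map
import Groth.Agent.Lib.RelProjK.Local
import Groth.Agent.Lib.RelTilde8.Comap

/-!
# The twisting sheaves commute with base change
-/

set_option autoImplicit false
set_option backward.isDefEq.respectTransparency false
set_option linter.style.haveILetI false

universe u

open CategoryTheory CategoryTheory.Limits AlgebraicGeometry TopologicalSpace Opposite DirectSum TensorProduct
open GrothLib.RelProjK
open GrothLib.RelTilde8 (evM evM_ext)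
open GrothLib.RelTilde8.O (ev)
open GrothLib.TildePull8 (ev_ext ev_add ev_mul ev_appLE basicOpen_le_preimage)
open scoped HomogeneousIdeal

noncomputable section

namespace GrothLib.RelBC8

theorem appLE_congr_hom {X Z : Scheme.{u}} {f f' : X ⟶ Z} (e : f = f') (U : Z.Opens) (V : X.Opens)
    (h : V ≤ f ⁻¹ᵁ U) (h' : V ≤ f' ⁻¹ᵁ U) : f.appLE U V h = f'.appLE U V h' := by
  subst e; rfl

theorem bijective_appLE_image {X Z : Scheme.{u}} (j : X ⟶ Z) [IsOpenImmersion j] (V : X.Opens)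
    (h : V ≤ j ⁻¹ᵁ (j ''ᵁ V)) : Function.Bijective (j.appLE (j ''ᵁ V) V h).hom := by
  have : j.appLE (j ''ᵁ V) V h = (j.appIso V).hom := (Scheme.Hom.appIso_hom' j V).symm
  rw [this]
  exact ConcreteCategory.bijective_of_isIso _

section Frac

variable {A σ : Type u} [CommRing A] [SetLike σ A] [AddSubgroupClass σ A] {𝒜 : ℕ → σ} [GradedRing 𝒜]
variable {d : ℕ} {f : A} (hf : f ∈ 𝒜 d)

/-- `a_{kd} / f ^ k` as a function on `D(f)`. -/
def oFrac (k : ℕ) (a : A) : Γ(Proj 𝒜, Proj.basicOpen 𝒜 f) :=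
  Proj.awayToSection 𝒜 f (HomogeneousLocalization.Away.mk 𝒜 hf k (decompose 𝒜 a (k • d) : A) (SetLike.coe_mem _))

theorem ev_oFrac (k : ℕ) (a : A) (y : Proj.basicOpen 𝒜 f) :
    ev y (oFrac hf k a) = Localization.mk (decompose 𝒜 a (k • d) : A) (TildePull8.fpow f k y) := by
  refine (ProjectiveSpectrum.Proj.awayToSection_apply _ _ _ _).trans ?_
  rw [HomogeneousLocalization.Away.val_mk, Localization.mk_eq_mk', IsLocalization.map_mk',
    Localization.mk_eq_mk']
  rfl

end Frac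

variable {Y Y' P P' : Scheme.{u}} {ψ : Y' ⟶ Y} {𝒮 : RelProj.QCGrAlg Y} {𝒮' : RelProj.QCGrAlg Y'}
  {p : P ⟶ Y} {p' : P' ⟶ Y'}
  {chart : ∀ (U : Y.Opens) (hU : IsAffineOpen U), (((p ⁻¹ᵁ U : P.Opens) : Scheme.{u}) ≅ Proj (𝒮.deg U hU))}
  {chart' : ∀ (U' : Y'.Opens) (hU' : IsAffineOpen U'), (((p' ⁻¹ᵁ U' : P'.Opens) : Scheme.{u}) ≅ Proj (𝒮'.deg U' hU'))}
  {g : P' ⟶ P} {D : Data ψ 𝒮 𝒮'} (hg : IsOver D p p' chart chart' g)
  (hP : RelProj.IsRelProj 𝒮 p chart) (hP' : RelProj.IsRelProj 𝒮' p' chart')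
  (n : ℤ) {L : P.Modules}
  {lam : ∀ (U : Y.Opens) (hU : IsAffineOpen U),
    L ⟶ (Scheme.Modules.pushforward (RelProj.emb p chart U hU)).obj (GrTwist.twist (𝒮.deg U hU) n)}
  {L' : P'.Modules}
  {lam' : ∀ (U' : Y'.Opens) (hU' : IsAffineOpen U'),
    L' ⟶ (Scheme.Modules.pushforward (RelProj.emb p' chart' U' hU')).obj (GrTwist.twist (𝒮'.deg U' hU') n)}

/-- A section of `L` over a basic open of a chart, as a section of the twist. -/
def chartSec (lam : ∀ (U : Y.Opens) (hU : IsAffineOpen U),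
    L ⟶ (Scheme.Modules.pushforward (RelProj.emb p chart U hU)).obj (GrTwist.twist (𝒮.deg U hU) n))
    (U : Y.AffineZariskiSite) (V : (Proj (dg 𝒮 U)).Opens) :
    Γ(L, em p chart U ''ᵁ V) →+ Γ(GrMod.tilde (dg 𝒮 U) (dg 𝒮 U) n, V) :=
  ((GrTwist.twist (dg 𝒮 U) n).presheaf.map
    (homOfLE ((em p chart U).preimage_image_eq V).ge).op).hom.comp ((lam U.1 U.2).app (em p chart U ''ᵁ V)).hom

theorem evM_chartSec (U : Y.AffineZariskiSite) (V : (Proj (dg 𝒮 U)).Opens) (s : Γ(L, em p chart U ''ᵁ V)) (y : V) :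
    evM y (chartSec n lam U V s) =
      vl (onChart lam U s) y.1 (((em p chart U).preimage_image_eq V).ge y.2) := rfl

theorem chartSec_bijective (hL : RelProj.IsRelTwist 𝒮 p chart n L lam) (U : Y.AffineZariskiSite)
    (V : (Proj (dg 𝒮 U)).Opens) : Function.Bijective (chartSec n lam U V) := by
  have h1 : em p chart U ''ᵁ V ≤ p ⁻¹ᵁ U.1 := fun z hz => by
    obtain ⟨w, -, rfl⟩ := hz
    exact (mem_opensRange_em U).mp ⟨w, rfl⟩
  have h2 : Function.Bijective ((GrTwist.twist (dg 𝒮 U) n).presheaf.map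
      (homOfLE ((em p chart U).preimage_image_eq V).ge).op) := by
    haveI : IsIso (homOfLE ((em p chart U).preimage_image_eq V).ge) :=
      ⟨homOfLE ((em p chart U).preimage_image_eq V).le, rfl, rfl⟩
    exact ConcreteCategory.bijective_of_isIso _
  exact h2.comp (hL.bijective U.1 U.2 _ h1)

theorem chartSec_smul (U : Y.AffineZariskiSite) (V : (Proj (dg 𝒮 U)).Opens)
    (r : Γ(P, em p chart U ''ᵁ V)) (s : Γ(L, em p chart U ''ᵁ V)) :
    chartSec n lam U V (r • s) =
      ((em p chart U).appLE (em p chart U ''ᵁ V) V ((em p chart U).preimage_image_eq V).ge).hom r •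
        chartSec n lam U V s := by
  show ((GrTwist.twist (dg 𝒮 U) n).presheaf.map _) ((lam U.1 U.2).app _ (r • s)) = _
  rw [Scheme.Modules.Hom.app_smul]
  exact Scheme.Modules.map_smul (GrTwist.twist (dg 𝒮 U) n)
    (homOfLE ((em p chart U).preimage_image_eq V).ge) ((em p chart U).app _ r) ((lam U.1 U.2).app _ s)

/-- Pushouts over the affine opens of the two bases. -/
structure BaseData (D : Data ψ 𝒮 𝒮') where
  α : ∀ (U : Y.AffineZariskiSite) (U' : Y'.AffineZariskiSite), Le ψ U U' → (Γ(Y, U.1) →+* Γ(Y', U'.1))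
  ρ : ∀ (U : Y.AffineZariskiSite), Γ(Y, U.1) →+* 𝒮.presheaf.obj (op U.1)
  ρ' : ∀ (U' : Y'.AffineZariskiSite), Γ(Y', U'.1) →+* 𝒮'.presheaf.obj (op U'.1)
  mem : ∀ U r, ρ U r ∈ dg 𝒮 U 0
  mem' : ∀ U r, ρ' U r ∈ dg 𝒮' U 0
  pushout : ∀ (U : Y.AffineZariskiSite) (U' : Y'.AffineZariskiSite) (h : Le ψ U U'),
    IsPushout (CommRingCat.ofHom (α U U' h)) (CommRingCat.ofHom (ρ U)) (CommRingCat.ofHom (ρ' U'))
      (CommRingCat.ofHom (D.φ U U' h).toRingHom)

variable (a : (Scheme.Modules.pullback g).obj L ⟶ L')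
  (ha : ∀ (U : Y.AffineZariskiSite) (U' : Y'.AffineZariskiSite)
      (h : Le ψ U U') (W : P.Opens) (s : Γ(L, W)),
      onChart lam' U' (show Γ(L', g ⁻¹ᵁ W) from
        a.app (g ⁻¹ᵁ W) (((Scheme.Modules.pullbackPushforwardAdjunction g).unit.app L).app W s)) =
      cmpApp hg n h (onChart lam U s))

include ha in
theorem chartSec_app (U : Y.AffineZariskiSite) (U' : Y'.AffineZariskiSite) (h : Le ψ U U')
    (f : 𝒮.presheaf.obj (op U.1))
    (e : em p' chart' U' ''ᵁ Proj.basicOpen (dg 𝒮' U') (D.φ U U' h f) ≤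
      g ⁻¹ᵁ (em p chart U ''ᵁ Proj.basicOpen (dg 𝒮 U) f))
    (s : Γ(L, em p chart U ''ᵁ Proj.basicOpen (dg 𝒮 U) f)) :
    chartSec n lam' U' _ (a.app _ (QCoh.pullSec g L e s)) =
      cmap (D.φ U U' h) (D.irr U U' h) f (chartSec n lam U _ s) := by
  refine evM_ext fun y => ?_
  rw [evM_chartSec]
  have hy := ((em p' chart' U').preimage_image_eq (Proj.basicOpen (dg 𝒮' U') (D.φ U U' h f))).ge y.2
  have e1 : a.app _ (QCoh.pullSec g L e s) = tr L' e
      (a.app _ (((Scheme.Modules.pullbackPushforwardAdjunction g).unit.app L).app _ s)) :=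
    app_tr a e _
  have e2 : onChart lam' U' (a.app _ (QCoh.pullSec g L e s)) = tr _ e (cmpApp hg n h (onChart lam U s)) :=
    ((congrArg (onChart lam' U') e1).trans (app_tr (lam' U'.1 U'.2) e _)).trans
      (congrArg (tr (Tw p' chart' n U') e) (ha U U' h _ s))
  refine (congrArg (fun t : Γ(Tw p' chart' n U', em p' chart' U' ''ᵁ Proj.basicOpen (dg 𝒮' U') (D.φ U U' h f)) =>
    vl t y.1 hy) e2).trans ?_
  exact vl_cmp hg n h (onChart lam U s) y.1 (e hy)

set_option maxHeartbeats 4000000 in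
include hP hP' ha in
theorem bijective_app (B : BaseData D) (hL : RelProj.IsRelTwist 𝒮 p chart n L lam)
    (hL' : RelProj.IsRelTwist 𝒮' p' chart' n L' lam') (U : Y.AffineZariskiSite) (U' : Y'.AffineZariskiSite)
    (h : Le ψ U U') {d : ℕ} (hd : 0 < d) {f : 𝒮.presheaf.obj (op U.1)} (hf : f ∈ dg 𝒮 U d) :
    Function.Bijective (a.app (em p' chart' U' ''ᵁ Proj.basicOpen (dg 𝒮' U') (D.φ U U' h f))) := by
  let φ := D.φ U U' h
  let hf' := φ.map_mem hf
  let V := Proj.basicOpen (dg 𝒮 U) f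
  let V' := Proj.basicOpen (dg 𝒮' U') (φ f)
  let W := em p chart U ''ᵁ V
  let W' := em p' chart' U' ''ᵁ V'
  have eV : V ≤ em p chart U ⁻¹ᵁ W := ((em p chart U).preimage_image_eq V).ge
  have eV' : V' ≤ em p' chart' U' ⁻¹ᵁ W' := ((em p' chart' U').preimage_image_eq V').ge
  have eφ : V' ≤ Proj.map φ (D.irr U U' h) ⁻¹ᵁ V := basicOpen_le_preimage φ (D.irr U U' h) f
  have e : W' ≤ g ⁻¹ᵁ W := by
    rintro z ⟨y, hy, rfl⟩
    show g (em p' chart' U' y) ∈ W
    rw [em_apply hg h]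
    exact eV (eφ hy)
  let β : Γ(P, W) →+* Γ(Proj (dg 𝒮 U), V) := ((em p chart U).appLE W V eV).hom
  let β' : Γ(P', W') →+* Γ(Proj (dg 𝒮' U'), V') := ((em p' chart' U').appLE W' V' eV').hom
  have hβ : Function.Bijective β := bijective_appLE_image _ V eV
  have hβ' : Function.Bijective β' := bijective_appLE_image _ V' eV'
  let γ : Γ(P, W) →+* Γ(P', W') := (g.appLE W W' e).hom
  let μ := ((Proj.map φ (D.irr U U' h)).appLE V V' eφ).hom
  have hsq : ∀ x, β' (γ x) = μ (β x) := fun x => by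
    show (g.appLE W W' e ≫ (em p' chart' U').appLE W' V' eV').hom x =
      ((em p chart U).appLE W V eV ≫ (Proj.map φ (D.irr U U' h)).appLE V V' eφ).hom x
    rw [Scheme.Hom.appLE_comp_appLE, Scheme.Hom.appLE_comp_appLE,
      appLE_congr_hom (hg U U' h) W V' _ (fun y hy => eV (eφ hy))]
  let R := Γ(Y, U.1)
  let R' := Γ(Y', U'.1)
  let α := B.α U U' h
  have hw : ∀ r, B.ρ' U' (α r) = φ (B.ρ U r) := fun r => ConcreteCategory.congr_hom (B.pushout U U' h).w r
  have hμ : ∀ r : R, μ (scal (B.ρ U) (B.mem U) f r) = scal (B.ρ' U') (B.mem' U') (φ f) (α r) := fun r =>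
    ev_ext fun y => by
      refine (ev_appLE φ (D.irr U U' h) eφ _ y (B.ρ U r) 1
        (fun hm => (ProjectiveSpectrum.comap φ (D.irr U U' h) y.1).isPrime.ne_top ((Ideal.eq_top_iff_one _).mpr hm))
        (ev_scal (B.ρ U) (B.mem U) f r _)).trans ?_
      rw [ev_scal, hw]
      exact congrArg₂ Localization.mk rfl (Subtype.ext (map_one φ))
  let eβ := RingEquiv.ofBijective β hβ
  let eβ' := RingEquiv.ofBijective β' hβ'
  let σ : R →+* Γ(P, W) := eβ.symm.toRingHom.comp (scal (B.ρ U) (B.mem U) f)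
  let σ' : R' →+* Γ(P', W') := eβ'.symm.toRingHom.comp (scal (B.ρ' U') (B.mem' U') (φ f))
  have hβσ : ∀ r, β (σ r) = scal (B.ρ U) (B.mem U) f r := fun r => eβ.apply_symm_apply _
  have hβσ' : ∀ r, β' (σ' r) = scal (B.ρ' U') (B.mem' U') (φ f) r := fun r => eβ'.apply_symm_apply _
  have hγσ : ∀ r, γ (σ r) = σ' (α r) := fun r => hβ'.1 (by rw [hsq, hβσ, hβσ', hμ])
  haveI : L.IsQuasicoherent := isQCoh_of_isRelTwist hL
  let F' := (Scheme.Modules.pullback g).obj L
  let M₀ := Γ(GrMod.tilde (dg 𝒮 U) (dg 𝒮 U) n, V)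
  let N₀ := Γ(GrMod.tilde (dg 𝒮' U') (dg 𝒮' U') n, V')
  letI : Module R M₀ := Module.compHom _ (scal (B.ρ U) (B.mem U) f)
  letI : Module R' N₀ := Module.compHom _ (scal (B.ρ' U') (B.mem' U') (φ f))
  letI : Algebra R R' := α.toAlgebra
  obtain ⟨Φ, hΦt, hΦ⟩ := bijective_lift hf φ (D.irr U U' h) α (B.ρ U) (B.ρ' U') (B.mem U) (B.mem' U')
    (n := n) hd (B.pushout U U' h)
  let l := AddEquiv.ofBijective (chartSec n lam U V) (chartSec_bijective n hL U V)
  have hl : ∀ (r : R) (m : M₀), l.symm (scal (B.ρ U) (B.mem U) f r • m) = σ r • l.symm m := fun r m => by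
    apply l.injective
    rw [AddEquiv.apply_symm_apply]
    show _ = chartSec n lam U V (σ r • l.symm m)
    rw [chartSec_smul]
    show _ = β (σ r) • l (l.symm m)
    rw [hβσ, AddEquiv.apply_symm_apply]
  have hkey : ∀ s : Γ(L, W), chartSec n lam' U' V' (a.app W' (QCoh.pullSec g L e s)) =
      cmap φ (D.irr U U' h) f (chartSec n lam U V s) := fun s => by
    exact chartSec_app hg n a ha U U' h f e s
  letI : Module R' Γ(F', W') := Module.compHom _ σ'
  letI : Module R Γ(F', W') := Module.compHom _ α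
  haveI : IsScalarTower R R' Γ(F', W') := IsScalarTower.of_algebraMap_smul fun _ _ => rfl
  let c : M₀ →ₗ[R] Γ(F', W') :=
    { toFun := fun m => QCoh.pullSec g L e (l.symm m)
      map_add' := fun x y => by rw [map_add, map_add]
      map_smul' := fun r m => by
        show QCoh.pullSec g L e (l.symm (scal (B.ρ U) (B.mem U) f r • m)) = σ' (α r) • QCoh.pullSec g L e (l.symm m)
        rw [hl, QCoh.pullSec_smul, ← hγσ] }
  let Θ : R' ⊗[R] M₀ →ₗ[R'] Γ(F', W') := c.liftBaseChange R'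
  have hΘΦ : ∀ z, chartSec n lam' U' V' (a.app W' (Θ z)) = Φ z := fun z => by
    induction z using TensorProduct.induction_on with
    | zero => simp only [map_zero]
    | add x y hx hy => simp only [map_add, hx, hy]
    | tmul r m =>
      rw [LinearMap.liftBaseChange_tmul, hΦt]
      show chartSec n lam' U' V' (a.app W' (σ' r • QCoh.pullSec g L e (l.symm m))) = _
      rw [Scheme.Modules.Hom.app_smul, chartSec_smul, hkey]
      show β' (σ' r) • cmap φ (D.irr U U' h) f (l (l.symm m)) = _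
      rw [hβσ', AddEquiv.apply_symm_apply]
  have hgenO : ∀ x : Γ(P', W'), ∀ s : Γ(L, W), x • QCoh.pullSec g L e s ∈ LinearMap.range Θ := by
    intro x
    obtain ⟨k, b, hb, hbev⟩ := RelTilde8.exists_ev_eq hf' hd (β' x)
    have hx : x = eβ'.symm (oFrac hf' k b) := hβ'.1 (by
      refine (ev_ext fun y => ?_).trans (eβ'.apply_symm_apply _).symm
      rw [hbev y, ev_oFrac, decompose_of_mem_same _ hb]
      rfl)
    subst hx
    clear hbev hb
    letI : Algebra R (𝒮.presheaf.obj (op U.1)) := (B.ρ U).toAlgebra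
    letI : Algebra R' (𝒮'.presheaf.obj (op U'.1)) := (B.ρ' U').toAlgebra
    letI : Algebra (𝒮.presheaf.obj (op U.1)) (𝒮'.presheaf.obj (op U'.1)) := φ.toRingHom.toAlgebra
    letI : Algebra R (𝒮'.presheaf.obj (op U'.1)) := ((B.ρ' U').comp α).toAlgebra
    haveI : IsScalarTower R R' (𝒮'.presheaf.obj (op U'.1)) := IsScalarTower.of_algebraMap_eq fun _ => rfl
    haveI : IsScalarTower R (𝒮.presheaf.obj (op U.1)) (𝒮'.presheaf.obj (op U'.1)) :=
      IsScalarTower.of_algebraMap_eq fun r => hw r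
    have hbc : IsBaseChange R'
        (IsScalarTower.toAlgHom R (𝒮.presheaf.obj (op U.1)) (𝒮'.presheaf.obj (op U'.1))).toLinearMap :=
      (CommRingCat.isPushout_iff_isPushout.mp (B.pushout U U' h)).out
    induction b using hbc.inductionOn with
    | zero =>
      intro s
      have : oFrac hf' k 0 = 0 := ev_ext fun y => by
        rw [ev_oFrac, TildePull8.ev_zero]; simp [Localization.mk_zero]
      rw [this, map_zero, zero_smul]
      exact zero_mem _
    | tmul b =>
      intro s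
      have : eβ'.symm (oFrac hf' k (φ b)) = γ (eβ.symm (oFrac hf k b)) := hβ'.1 (by
        rw [hsq]
        refine (eβ'.apply_symm_apply _).trans (Eq.trans ?_ (congrArg μ (eβ.apply_symm_apply _).symm))
        refine ev_ext fun y => ?_
        rw [ev_oFrac]
        refine Eq.trans ?_ (ev_appLE φ (D.irr U U' h) eφ _ y _ _ (TildePull8.fpow f k ⟨_, eφ y.2⟩).2
          (ev_oFrac hf k b _)).symm
        refine congrArg₂ Localization.mk ?_ (Subtype.ext (map_pow φ f k).symm)
        simp)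
      show eβ'.symm (oFrac hf' k (φ b)) • QCoh.pullSec g L e s ∈ _
      rw [this, ← QCoh.pullSec_smul]
      refine ⟨(1 : R') ⊗ₜ l (eβ.symm (oFrac hf k b) • s), ?_⟩
      rw [LinearMap.liftBaseChange_tmul, one_smul]
      exact congrArg (QCoh.pullSec g L e) (l.symm_apply_apply _)
    | smul r b ih =>
      intro s
      have : eβ'.symm (oFrac hf' k (r • b)) = σ' r * eβ'.symm (oFrac hf' k b) := by
        show _ = eβ'.symm (scal _ _ (φ f) r) * _
        rw [← map_mul]
        refine congrArg eβ'.symm (ev_ext fun y => ?_)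
        rw [ev_oFrac, ev_mul, ev_scal, ev_oFrac, Localization.mk_mul, one_mul]
        exact congrArg₂ Localization.mk (decompose_zero_mul (B.mem' U' r) _) rfl
      rw [this, mul_smul]
      exact Submodule.smul_mem (LinearMap.range Θ) r (ih s)
    | add b b' ih ih' =>
      intro s
      have : oFrac hf' k (b + b') = oFrac hf' k b + oFrac hf' k b' := ev_ext fun y => by
        rw [ev_add, ev_oFrac, ev_oFrac, ev_oFrac, Localization.add_mk_self]
        simp [DirectSum.decompose_add]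
      rw [this, map_add, add_smul]
      exact add_mem (ih s) (ih' s)
  have hΘ : Function.Surjective Θ := fun t => by
    letI : Algebra Γ(P, W) Γ(P', W') := γ.toAlgebra
    obtain ⟨z, rfl⟩ := (QCoh.bijective_sectionsMap g L e rfl
      ((Proj.isAffineOpen_basicOpen _ f hf hd).image_of_isOpenImmersion (em p chart U))
      ((Proj.isAffineOpen_basicOpen _ (φ f) hf' hd).image_of_isOpenImmersion (em p' chart' U'))).2 t
    induction z using TensorProduct.induction_on with
    | zero => exact ⟨0, by simp only [map_zero]⟩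
    | add x y hx hy =>
      obtain ⟨x', hx'⟩ := hx
      obtain ⟨y', hy'⟩ := hy
      exact ⟨x' + y', by rw [map_add, map_add, hx', hy']⟩
    | tmul r s =>
      rw [QCoh.sectionsMap_tmul]
      exact hgenO r s
  refine ⟨fun x y hxy => ?_, fun t => ?_⟩
  · obtain ⟨x, rfl⟩ := hΘ x
    obtain ⟨y, rfl⟩ := hΘ y
    exact congrArg Θ (hΦ.1 ((hΘΦ x).symm.trans ((congrArg (chartSec n lam' U' V') hxy).trans (hΘΦ y))))
  · obtain ⟨z, hz⟩ := hΦ.2 (chartSec n lam' U' V' t)
    exact ⟨Θ z, (chartSec_bijective n hL' U' V').1 ((hΘΦ z).trans hz)⟩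

include hg hP hP' in
/-- **Twisting sheaves commute with base change.** -/
theorem nonempty_iso (B : BaseData D) (hL : RelProj.IsRelTwist 𝒮 p chart n L lam)
    (hL' : RelProj.IsRelTwist 𝒮' p' chart' n L' lam') :
    Nonempty ((Scheme.Modules.pullback g).obj L ≅ L') := by
  obtain ⟨a, ha⟩ := exists_map hg n hP hP' hL hL'
  haveI : L.IsQuasicoherent := isQCoh_of_isRelTwist hL
  haveI : L'.IsQuasicoherent := isQCoh_of_isRelTwist hL'
  haveI := FittSheaf.isQuasicoherent_pullback g L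
  let ι := Σ' (U : Y.AffineZariskiSite) (U' : Y'.AffineZariskiSite) (h : Le ψ U U') (d : ℕ) (_ : 0 < d)
    (f : 𝒮.presheaf.obj (op U.1)), f ∈ dg 𝒮 U d
  haveI : IsIso a := by
    refine QCoh.isIso_of_bijective_on_cover a (ι := ι)
      (fun i => em p' chart' i.2.1 ''ᵁ Proj.basicOpen (dg 𝒮' i.2.1) (D.φ i.1 i.2.1 i.2.2.1 i.2.2.2.2.2.1))
      (top_le_iff.1 fun z _ => ?_)
      (fun ⟨U, U', h, d, hd, f, hf⟩ =>
        (Proj.isAffineOpen_basicOpen _ _ ((D.φ U U' h).map_mem hf) hd).image_of_isOpenImmersion _)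
      fun ⟨U, U', h, d, hd, f, hf⟩ => bijective_app hg hP hP' n a ha B hL hL' U U' h hd hf
    obtain ⟨U₀, hU₀, hz, -⟩ := exists_isAffineOpen_mem_and_subset (Opens.mem_top (p' z))
    obtain ⟨U', -, ⟨U, h⟩, hzU'⟩ := exists_small (ψ := ψ) ⟨U₀, hU₀⟩ hz
    obtain ⟨y, rfl⟩ := (mem_opensRange_em (chart := chart') U').mpr hzU'
    obtain ⟨d, f, hd, hf, hfy⟩ :=
      RelTilde8.exists_pos_notMem (𝒜 := dg 𝒮 U) (ProjectiveSpectrum.comap (D.φ U U' h) (D.irr U U' h) y)
    exact Opens.mem_iSup.mpr ⟨⟨U, U', h, d, hd, f, hf⟩, y, hfy, rfl⟩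
  exact ⟨asIso a⟩

end GrothLib.RelBC8
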